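import Groth.Agent.Lib.ConnOpen6.Spread
import Groth.Agent.Lib.SecComp6.Multi
import Groth.Agent.Lib.SecComp6.Univ.Dvr

/-!
# Etale covers by morphisms with geometrically connected fibres
-/

set_option autoImplicit false
set_option linter.style.haveILetI false

universe u

open CategoryTheory CategoryTheory.Limits AlgebraicGeometry TopologicalSpace Topology

namespace GrothLib.ConnOpen6

theorem geometricallyConnected_sectionComponents {X Y : Scheme.{u}} (f : X ⟶ Y) (s : Y ⟶ X) (hs : s ≫ f = 𝟙 Y)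
    (C : X.Opens) (hC : (C : Set X) = MoreMor.sectionComponents f s) : GeometricallyConnected (C.ι ≫ f) := by
  rw [CurveLocus.geometricallyConnected_iff]
  intro Ω _ _ t X' i q hsq
  rw [connectedSpace_iff_preimage f C t hsq, hC]
  let s' : Spec (CommRingCat.of Ω) ⟶ pullback f t :=
    pullback.lift (t ≫ s) (𝟙 _) (by rw [Category.assoc, hs, Category.comp_id, Category.id_comp])
  rw [← SecComp6.sectionComponents_baseChange f s hs (pullback.snd f t) (pullback.fst f t) t
    (IsPullback.of_hasPullback f t) s' (pullback.lift_snd _ _ _) (pullback.lift_fst _ _ _)]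
  have : MoreMor.sectionComponents (pullback.snd f t) s' = connectedComponent (s' (IsLocalRing.closedPoint Ω)) := by
    ext a
    have hu : (pullback.snd f t) ⁻¹' {pullback.snd f t a} = Set.univ := Set.eq_univ_of_forall fun b => Subsingleton.elim _ _
    show a ∈ connectedComponentIn ((pullback.snd f t) ⁻¹' {pullback.snd f t a}) (s' (pullback.snd f t a)) ↔ _
    rw [hu, connectedComponentIn_univ, Subsingleton.elim (pullback.snd f t a) (IsLocalRing.closedPoint Ω)]
  rw [this]
  exact isConnected_connectedComponent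

theorem exists_cover_affine {X S : Scheme.{u}} (f : X ⟶ S) [Flat f] [LocallyOfFinitePresentation f]
    [QuasiCompact f] [QuasiSeparated f] [GeometricallyReduced f] (x : X) :
    ∃ (X' S' : Scheme.{u}) (a : X' ⟶ X) (b : X' ⟶ S') (c : S' ⟶ S), Etale a ∧ x ∈ Set.range ⇑a ∧ Etale c ∧ a ≫ f = b ≫ c ∧
      Flat b ∧ LocallyOfFinitePresentation b ∧ QuasiCompact b ∧ QuasiSeparated b ∧ GeometricallyConnected b ∧ GeometricallyReduced b := by
  let s := f x
  let xf := f.asFiber x
  haveI : LocallyOfFiniteType (f.fiberToSpecResidueField s) := MorphismProperty.pullback_snd f _ inferInstance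
  haveI : QuasiCompact (f.fiberToSpecResidueField s) := MorphismProperty.pullback_snd f _ inferInstance
  haveI : CompactSpace ↥(f.fiber s) := (quasiCompact_iff_compactSpace (f.fiberToSpecResidueField s)).1 inferInstance
  haveI : IsLocallyNoetherian (f.fiber s) := LocallyOfFiniteType.isLocallyNoetherian (f.fiberToSpecResidueField s)
  haveI : IsNoetherian (f.fiber s) := {}
  let T : (f.fiber s).Opens := ⟨connectedComponent xf, SecComp6.isOpen_connectedComponent_noetherian xf⟩
  obtain ⟨X₁, x₁, hsm, hx₁s, ⟨p, hpT, hpx⟩, hcl, hsep⟩ :=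
    exists_smooth_separable_point f s T ⟨xf, mem_connectedComponent⟩
  obtain ⟨Z, i, z, _, hetq, hiz, -⟩ := Groth.Agent.S0413.result (X₁.ι ≫ f) x₁ hcl hsep
  obtain ⟨_, ⟨(Z₀ : Z.Opens), hZ₀, rfl⟩, hzZ₀, -⟩ := Z.isBasis_affineOpens.exists_subset_of_mem_open
    (Set.mem_univ z) isOpen_univ
  let c := Z₀.ι ≫ i ≫ X₁.ι ≫ f
  haveI : Etale (i ≫ X₁.ι ≫ f) := hetq
  haveI : Etale c := inferInstance
  haveI : IsAffine (Z₀ : Scheme.{u}) := hZ₀
  let fZ := pullback.snd f c
  haveI : LocallyOfFinitePresentation fZ := MorphismProperty.pullback_snd f c inferInstance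
  haveI : QuasiCompact fZ := MorphismProperty.pullback_snd f c inferInstance
  haveI : QuasiSeparated fZ := MorphismProperty.pullback_snd f c inferInstance
  haveI : Flat fZ := MorphismProperty.pullback_snd f c inferInstance
  haveI : GeometricallyReduced fZ := MorphismProperty.pullback_snd f c inferInstance
  haveI : CompactSpace ↥(pullback f c) := (quasiCompact_iff_compactSpace fZ).1 inferInstance
  haveI : QuasiSeparatedSpace ↥(pullback f c) := (quasiSeparated_iff_quasiSeparatedSpace fZ).1 inferInstance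
  let e : (Z₀ : Scheme.{u}) ⟶ X := Z₀.ι ≫ i ≫ X₁.ι
  let sec₁ : (Z₀ : Scheme.{u}) ⟶ pullback f c := pullback.lift e (𝟙 _) (by
    simp only [e, c, Category.assoc, Category.id_comp])
  have hs : sec₁ ≫ fZ = 𝟙 _ := pullback.lift_snd _ _ _
  have hopen : IsOpen (MoreMor.sectionComponents fZ sec₁) :=
    isOpen_iff_forall_mem_open.2 fun a ha => ⟨interior _, interior_subset, isOpen_interior,
      SecComp6.component_subset_interior _ _ hs (fZ a) inferInstance ha⟩
  let C : (pullback f c).Opens := ⟨_, hopen⟩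
  haveI : CompactSpace ↥(C : Scheme.{u}) := isCompact_iff_compactSpace.1
    (isCompact_of_isConstructible (SecComp6.isLocallyConstructible_sectionComponents fZ sec₁ hs).isConstructible)
  haveI : Etale (pullback.fst f c) := MorphismProperty.pullback_fst f c inferInstance
  refine ⟨C, Z₀, C.ι ≫ pullback.fst f c, C.ι ≫ fZ, c, inferInstance, ?_, inferInstance, ?_, inferInstance,
    inferInstance, (quasiCompact_iff_compactSpace _).2 inferInstance, inferInstance,
    geometricallyConnected_sectionComponents fZ sec₁ hs C rfl, geometricallyReduced_open_comp fZ C⟩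
  · let z₀ : (Z₀ : Scheme.{u}) := ⟨z, hzZ₀⟩
    have he : e z₀ = f.fiberι s p := by
      simp only [e, Scheme.Hom.comp_apply]
      rw [hpx, ← hiz]
      rfl
    have hcz : c z₀ = s := by
      show f (e z₀) = s
      rw [he]
      exact (f.range_fiberι s).le ⟨p, rfl⟩
    have himg := SecComp6.image_fiber_component f fZ (pullback.fst f c) c (IsPullback.of_hasPullback f c) z₀
      (sec₁ z₀) (by rw [← Scheme.Hom.comp_apply, hs]; rfl)
    have hse : pullback.fst f c (sec₁ z₀) = f.fiberι s p := by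
      rw [← he, ← Scheme.Hom.comp_apply, pullback.lift_fst]
    rw [hse, hcz, ← f.range_fiberι s, SecComp6.connectedComponentIn_range (f.fiberι s).isEmbedding] at himg
    have hxm : x ∈ f.fiberι s '' connectedComponent p := by
      refine ⟨xf, ?_, f.fiberι_asFiber x⟩
      rw [← connectedComponent_eq hpT]
      exact mem_connectedComponent
    obtain ⟨a, ha, hax⟩ := himg.ge hxm
    have hfa : fZ a = z₀ := (connectedComponentIn_subset (fZ ⁻¹' {z₀}) (sec₁ z₀)) ha
    have haC : a ∈ C := by
      show a ∈ connectedComponentIn (fZ ⁻¹' {fZ a}) (sec₁ (fZ a))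
      rw [hfa]
      exact ha
    exact ⟨⟨a, haC⟩, hax⟩
  · rw [Category.assoc, Category.assoc, pullback.condition]

theorem exists_cover {X S : Scheme.{u}} (f : X ⟶ S) [Flat f] [LocallyOfFinitePresentation f]
    [GeometricallyReduced f] (x : X) :
    ∃ (X' S' : Scheme.{u}) (a : X' ⟶ X) (b : X' ⟶ S') (c : S' ⟶ S), Etale a ∧ x ∈ Set.range ⇑a ∧ Etale c ∧ a ≫ f = b ≫ c ∧
      Flat b ∧ LocallyOfFinitePresentation b ∧ QuasiCompact b ∧ QuasiSeparated b ∧ GeometricallyConnected b ∧ GeometricallyReduced b := by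
  obtain ⟨_, ⟨(V : S.Opens), hV, rfl⟩, hxV, -⟩ := S.isBasis_affineOpens.exists_subset_of_mem_open
    (Set.mem_univ (f x)) isOpen_univ
  let fV := f ∣_ V
  haveI : GeometricallyReduced fV := inferInstance
  obtain ⟨_, ⟨(U : (f ⁻¹ᵁ V).toScheme.Opens), hU, rfl⟩, hxU, -⟩ :=
    (f ⁻¹ᵁ V).toScheme.isBasis_affineOpens.exists_subset_of_mem_open (Set.mem_univ ⟨x, hxV⟩) isOpen_univ
  haveI : IsAffine (U : Scheme.{u}) := hU
  haveI : IsAffine (V : Scheme.{u}) := hV
  haveI : Flat fV := IsZariskiLocalAtTarget.restrict ‹_› V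
  haveI : GeometricallyReduced (U.ι ≫ fV) := geometricallyReduced_open_comp fV U
  obtain ⟨X', S', a, b, c, ha, ⟨y, hy⟩, hc, hab, h⟩ := exists_cover_affine (U.ι ≫ fV) ⟨⟨x, hxV⟩, hxU⟩
  refine ⟨X', S', a ≫ U.ι ≫ (f ⁻¹ᵁ V).ι, b, c ≫ V.ι, inferInstance, ⟨y, ?_⟩, inferInstance, ?_, h⟩
  · rw [Scheme.Hom.comp_apply, Scheme.Hom.comp_apply, hy]
    rfl
  · rw [← reassoc_of% hab]
    simp only [fV, Category.assoc, morphismRestrict_ι]

end GrothLib.ConnOpen6
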