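import Groth.Agent.Lib.ConnOpen6.Spread
import Groth.Agent.Lib.NormalHom.BaseChange
import Groth.Agent.Lib.AlgMisc.GeomNormLocal
import Groth.Agent.Lib.NormalTori14.Integral
import Mathlib.AlgebraicGeometry.Geometrically.Integral

/-!
# Spreading out geometrically irreducible opens of fibres of normal morphisms
-/

set_option autoImplicit false
set_option linter.style.haveILetI false

universe u

open CategoryTheory CategoryTheory.Limits AlgebraicGeometry TopologicalSpace Topology
open scoped TensorProduct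

namespace GrothLib.ConnOpen6

open Groth.Agent.Lib.AlgMisc in
theorem isDomain_stalk_pullback_field {Y S : Scheme.{u}} (h : Y ⟶ S)
    (hn : ∀ (U : Y.Opens) (V : S.Opens) (hU : IsAffineOpen U) (hV : IsAffineOpen V) (hUV : U ≤ h ⁻¹ᵁ V),
      letI := (h.appLE V U hUV).hom.toAlgebra
      EGA4.IsNormalHom Γ(S, V) Γ(Y, U))
    {Ω : Type u} [Field Ω] (t : Spec (CommRingCat.of Ω) ⟶ S) (x : ↥(pullback h t)) :
    IsDomain ((pullback h t).presheaf.stalk x) := by
  let c := IsLocalRing.closedPoint Ω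
  obtain ⟨_, ⟨(V : S.Opens), hV, rfl⟩, hcV, -⟩ := S.isBasis_affineOpens.exists_subset_of_mem_open
    (Set.mem_univ (t c)) isOpen_univ
  have hy : pullback.fst h t x ∈ h ⁻¹ᵁ V := by
    show h (pullback.fst h t x) ∈ V
    rw [← Scheme.Hom.comp_apply, pullback.condition, Scheme.Hom.comp_apply, Subsingleton.elim (pullback.snd h t x) c]
    exact hcV
  obtain ⟨_, ⟨(U : Y.Opens), hU, rfl⟩, hxU, hUV⟩ := Y.isBasis_affineOpens.exists_subset_of_mem_open
    hy (h ⁻¹ᵁ V).isOpen
  have e : U ≤ h ⁻¹ᵁ V := hUV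
  let t₀ : Spec (CommRingCat.of Ω) ⟶ Spec Γ(S, V) := IsOpenImmersion.lift hV.fromSpec t (by
    rw [hV.range_fromSpec]
    rintro _ ⟨a, rfl⟩
    rw [Subsingleton.elim a c]
    exact hcV)
  have ht₀ : t₀ ≫ hV.fromSpec = t := IsOpenImmersion.lift_fac _ _ _
  letI : Algebra Γ(S, V) Γ(Y, U) := (h.appLE V U e).hom.toAlgebra
  letI : Algebra Γ(S, V) Ω := (Spec.preimage t₀).hom.toAlgebra
  have hN := hn U V hU hV e
  have hnorm : EGA4.IsNormalRing (Ω ⊗[Γ(S, V)] Γ(Y, U)) := NormalHom.isNormalRing_field_tensor' hN.2 Ω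
  let a : Spec (CommRingCat.of Γ(Y, U)) ⟶ Spec (CommRingCat.of Γ(S, V)) :=
    Spec.map (CommRingCat.ofHom (algebraMap Γ(S, V) Γ(Y, U)))
  have hah : a ≫ hV.fromSpec = hU.fromSpec ≫ h := IsAffineOpen.SpecMap_appLE_fromSpec h hV hU e
  let b : Spec (CommRingCat.of Ω) ⟶ Spec (CommRingCat.of Γ(S, V)) :=
    Spec.map (CommRingCat.ofHom (algebraMap Γ(S, V) Ω))
  have hb : b ≫ hV.fromSpec = t := by
    rw [show b = t₀ from Spec.map_preimage t₀]
    exact ht₀
  let P₀ := pullback b a
  let d : P₀ ⟶ pullback h t := pullback.lift (pullback.snd b a ≫ hU.fromSpec) (pullback.fst b a) (by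
    rw [Category.assoc, ← hah, ← Category.assoc, ← pullback.condition, Category.assoc, hb])
  have hsq : IsPullback (pullback.snd b a) (pullback.fst b a) (hU.fromSpec ≫ h) t := by
    refine IsPullback.of_isLimit' ⟨by rw [← hah, ← Category.assoc, ← pullback.condition, Category.assoc, hb]⟩
      (PullbackCone.IsLimit.mk _
        (fun s => pullback.lift s.snd s.fst ((cancel_mono hV.fromSpec).1 (by
          rw [Category.assoc, Category.assoc, hb, hah]
          exact s.condition.symm)))
        (fun s => pullback.lift_snd _ _ _) (fun s => pullback.lift_fst _ _ _)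
        (fun s m h1 h2 => pullback.hom_ext (h2.trans (pullback.lift_fst _ _ _).symm)
          (h1.trans (pullback.lift_snd _ _ _).symm)))
  have hdsq : IsPullback (pullback.snd b a) d hU.fromSpec (pullback.fst h t) := by
    refine IsPullback.of_bot ?_ (pullback.lift_fst _ _ _).symm (IsPullback.of_hasPullback h t)
    rw [show d ≫ pullback.snd h t = pullback.fst b a from pullback.lift_snd _ _ _]
    exact hsq
  haveI : IsOpenImmersion d := MorphismProperty.of_isPullback hdsq (inferInstance : IsOpenImmersion hU.fromSpec)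
  obtain ⟨u, hu⟩ := hU.range_fromSpec.ge hxU
  obtain ⟨w, -, hw⟩ := Scheme.exists_preimage_of_isPullback hdsq u x hu
  let ε := pullbackSpecIso Γ(S, V) Ω Γ(Y, U)
  have hP : GeomNormLocal.IsND (P₀.presheaf.stalk w) := by
    have h1 := (GeomNormLocal.isND_stalk_Spec_iff (CommRingCat.of (Ω ⊗[Γ(S, V)] Γ(Y, U))) (ε.hom w)).2
      (hnorm (ε.hom w).asIdeal)
    exact GeomNormLocal.isND_equiv (asIso (ε.hom.stalkMap w)).commRingCatIsoToRingEquiv h1
  have hx := GeomNormLocal.isND_equiv (asIso (d.stalkMap w)).commRingCatIsoToRingEquiv.symm hP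
  rw [← hw]
  exact hx.1

theorem flat_of_normal {Y S : Scheme.{u}} (h : Y ⟶ S)
    (hn : ∀ (U : Y.Opens) (V : S.Opens) (hU : IsAffineOpen U) (hV : IsAffineOpen V) (hUV : U ≤ h ⁻¹ᵁ V),
      letI := (h.appLE V U hUV).hom.toAlgebra
      EGA4.IsNormalHom Γ(S, V) Γ(Y, U)) : Flat h := by
  rw [HasRingHomProperty.iff_appLE (P := @Flat)]
  intro V U e
  exact (hn U.1 V.1 U.2 V.2 e).1

theorem geometricallyReduced_of_normal {Y S : Scheme.{u}} (h : Y ⟶ S)
    (hn : ∀ (U : Y.Opens) (V : S.Opens) (hU : IsAffineOpen U) (hV : IsAffineOpen V) (hUV : U ≤ h ⁻¹ᵁ V),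
      letI := (h.appLE V U hUV).hom.toAlgebra
      EGA4.IsNormalHom Γ(S, V) Γ(Y, U)) : GeometricallyReduced h := by
  refine ⟨fun K _ t X' i q hsq => ?_⟩
  haveI : ∀ x : ↥(pullback h t), _root_.IsReduced ((pullback h t).presheaf.stalk x) := fun x => by
    haveI := isDomain_stalk_pullback_field h hn t x
    infer_instance
  haveI := isReduced_of_isReduced_stalk (pullback h t)
  exact isReduced_of_isOpenImmersion (hsq.isoIsPullback _ _ (IsPullback.of_hasPullback h t)).hom

theorem exists_spread_integral {Y S : Scheme.{u}} (h : Y ⟶ S) [LocallyOfFinitePresentation h] [QuasiCompact h]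
    [QuasiSeparated h]
    (hn : ∀ (U : Y.Opens) (V : S.Opens) (hU : IsAffineOpen U) (hV : IsAffineOpen V) (hUV : U ≤ h ⁻¹ᵁ V),
      letI := (h.appLE V U hUV).hom.toAlgebra
      EGA4.IsNormalHom Γ(S, V) Γ(Y, U))
    (s : S) (T : (h.fiber s).Opens) (hT : GeometricallyIrreducible (T.ι ≫ h.fiberToSpecResidueField s)) :
    ∃ (S' : Scheme.{u}) (g : S' ⟶ S) (s' : S'), IsAffine S' ∧ Hens2.IsEtaleNbhd g s' s ∧
      ∃ V : (pullback h g).Opens, IsCompact (V : Set ↑(pullback h g)) ∧ GeometricallyIntegral (V.ι ≫ pullback.snd h g) ∧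
        ∀ y' : ↑(pullback h g), pullback.snd h g y' = s' → (y' ∈ V ↔ pullback.fst h g y' ∈ (h.fiberι s) '' (T : Set ↑(h.fiber s))) := by
  haveI := flat_of_normal h hn
  haveI := geometricallyReduced_of_normal h hn
  have hTc : GeometricallyConnected (T.ι ≫ h.fiberToSpecResidueField s) := ⟨fun K _ t X' i q hsq => by
    haveI := hT.geometrically_irreducibleSpace t i q hsq
    infer_instance⟩
  obtain ⟨S', g, s', hS', hg, V, hVc, hV, htr⟩ := exists_spread h s T hTc
  refine ⟨S', g, s', hS', hg, V, hVc, ?_, htr⟩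
  refine ⟨fun K _ t X' i q hsq => ?_⟩
  haveI : ConnectedSpace ↥X' := hV.geometrically_connectedSpace t i q hsq
  haveI : LocallyOfFiniteType (pullback.snd h g) := MorphismProperty.pullback_snd h g inferInstance
  haveI : LocallyOfFiniteType q := MorphismProperty.of_isPullback hsq (inferInstance : LocallyOfFiniteType (V.ι ≫ pullback.snd h g))
  haveI : IsLocallyNoetherian X' := LocallyOfFiniteType.isLocallyNoetherian q
  let O := pullback.fst (pullback.snd h g) t ⁻¹ᵁ V
  have hO : IsPullback (pullback.fst (pullback.snd h g) t ∣_ V) (O.ι ≫ pullback.snd (pullback.snd h g) t)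
      (V.ι ≫ pullback.snd h g) t :=
    (isPullback_morphismRestrict _ V).paste_vert (IsPullback.of_hasPullback (pullback.snd h g) t)
  let e := hsq.isoIsPullback _ _ hO
  let e' := ((IsPullback.of_hasPullback (pullback.snd h g) t).paste_horiz (IsPullback.of_hasPullback h g)).isoIsPullback _ _
    (IsPullback.of_hasPullback h (t ≫ g))
  let j : X' ⟶ pullback h (t ≫ g) := e.hom ≫ O.ι ≫ e'.hom
  refine NormalTori14.isIntegral_of_connected fun x => ?_
  haveI := isDomain_stalk_pullback_field h hn (t ≫ g) (j x)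
  exact (asIso (j.stalkMap x)).commRingCatIsoToRingEquiv.symm.injective.isDomain

end GrothLib.ConnOpen6
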