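import Groth.Agent.Lib.SecComp6.Nhd
import Groth.Agent.Lib.SecComp6.Constr
import Groth.Agent.Lib.SecComp6.BaseChange
import Groth.Agent.Lib.CurveLocus.Basic
import Groth.Prelude.Def_Mor2
import Mathlib.AlgebraicGeometry.AlgClosed.Basic

/-!
# Opens with geometrically connected fibres through a finite multisection
-/

set_option autoImplicit false
set_option linter.style.haveILetI false

universe u

open CategoryTheory CategoryTheory.Limits AlgebraicGeometry TopologicalSpace Topology

namespace GrothLib.ConnOpen6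

theorem isCompact_of_isConstructible {X : Type*} [TopologicalSpace X] [CompactSpace X] {s : Set X}
    (hs : Topology.IsConstructible s) : IsCompact s := by
  refine BooleanSubalgebra.closure_sdiff_sup_induction (s := {U : Set X | IsOpen U ∧ IsRetrocompact U})
    (p := fun t _ => IsCompact t)
    ⟨fun _ ha _ hb => ⟨ha.1.union hb.1, ha.2.union hb.2⟩,
      fun _ ha _ hb => ⟨ha.1.inter hb.1, ha.2.inter_isOpen hb.2 hb.1⟩⟩
    ⟨isOpen_empty, .empty⟩ ⟨isOpen_univ, .univ⟩
    (fun a ha b hb => ha.2.isCompact.diff hb.1) (fun a _ b _ ha hb => ha.union hb) s hs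

theorem compl_locallyConstructible {X : Type*} [TopologicalSpace X] {s : Set X} (hs : IsLocallyConstructible s) :
    IsLocallyConstructible sᶜ := fun x => by
  obtain ⟨U, hxU, hU, h⟩ := hs x
  exact ⟨U, hxU, hU, h.compl⟩

variable {X Y Z : Scheme.{u}} (f : X ⟶ Y) (g : Z ⟶ Y) (σ : Z ⟶ X) (hσ : σ ≫ f = g)

/-- The section of the base change along the multisection. -/
noncomputable def sec : Z ⟶ pullback f g :=
  pullback.lift σ (𝟙 Z) (by rw [hσ, Category.id_comp])

/-- Points lying, over every point of the multisection, in its component. -/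
def good : Set X :=
  f ⁻¹' Set.range g ∩ (pullback.fst f g '' (MoreMor.sectionComponents (pullback.snd f g) (sec f g σ hσ))ᶜ)ᶜ

theorem mem_good {x : X} : x ∈ good f g σ hσ ↔ f x ∈ Set.range g ∧
    ∀ q, pullback.fst f g q = x → q ∈ MoreMor.sectionComponents (pullback.snd f g) (sec f g σ hσ) := by
  refine and_congr Iff.rfl ⟨fun h q hq => ?_, fun h => ?_⟩
  · by_contra hn
    exact h ⟨q, hn, hq⟩
  · rintro ⟨q, hn, hq⟩
    exact hn (h q hq)

theorem isOpen_good [LocallyOfFinitePresentation f] [QuasiCompact f] [QuasiSeparated f] [Flat f]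
    [GeometricallyReduced f] (hg : Mor2.IsFinLocFree g) : IsOpen (good f g σ hσ) := by
  obtain ⟨_, _, _⟩ := hg
  haveI : IsFinite (pullback.fst f g) := MorphismProperty.pullback_fst f g inferInstance
  haveI : LocallyOfFinitePresentation (pullback.snd f g) := MorphismProperty.pullback_snd f g inferInstance
  haveI : QuasiCompact (pullback.snd f g) := MorphismProperty.pullback_snd f g inferInstance
  haveI : QuasiSeparated (pullback.snd f g) := MorphismProperty.pullback_snd f g inferInstance
  haveI : Flat (pullback.snd f g) := MorphismProperty.pullback_snd f g inferInstance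
  haveI : GeometricallyReduced (pullback.snd f g) := MorphismProperty.pullback_snd f g inferInstance
  have hs : sec f g σ hσ ≫ pullback.snd f g = 𝟙 Z := pullback.lift_snd _ _ _
  have hopen : IsOpen (MoreMor.sectionComponents (pullback.snd f g) (sec f g σ hσ)) :=
    isOpen_iff_forall_mem_open.2 fun x hx => ⟨interior _, interior_subset, isOpen_interior,
      SecComp6.component_subset_interior _ _ hs (pullback.snd f g x) inferInstance hx⟩
  exact (g.isOpenMap.isOpen_range.preimage f.continuous).inter
    ((pullback.fst f g).isClosedMap _ hopen.isClosed_compl).isOpen_compl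

theorem isCompact_good_inter [LocallyOfFinitePresentation f] [QuasiCompact f] [QuasiSeparated f] [Flat f]
    [GeometricallyReduced f] (hg : Mor2.IsFinLocFree g) {V : Y.Opens} (hV : IsAffineOpen V) :
    IsCompact (good f g σ hσ ∩ f ⁻¹' (V : Set Y)) := by
  have hopen := isOpen_good f g σ hσ hg
  obtain ⟨_, _, _⟩ := hg
  haveI : LocallyOfFinitePresentation (pullback.snd f g) := MorphismProperty.pullback_snd f g inferInstance
  haveI : QuasiCompact (pullback.snd f g) := MorphismProperty.pullback_snd f g inferInstance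
  haveI : QuasiSeparated (pullback.snd f g) := MorphismProperty.pullback_snd f g inferInstance
  haveI : LocallyOfFinitePresentation (pullback.fst f g) := MorphismProperty.pullback_fst f g inferInstance
  haveI : QuasiCompact (pullback.fst f g) := MorphismProperty.pullback_fst f g inferInstance
  have hs : sec f g σ hσ ≫ pullback.snd f g = 𝟙 Z := pullback.lift_snd _ _ _
  have hC := SecComp6.isLocallyConstructible_sectionComponents (pullback.snd f g) (sec f g σ hσ) hs
  let W := f ⁻¹ᵁ V
  haveI : QuasiCompact (f ∣_ V) := IsZariskiLocalAtTarget.restrict ‹_› V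
  haveI : QuasiSeparated (f ∣_ V) := IsZariskiLocalAtTarget.restrict ‹_› V
  haveI : IsAffine (V : Scheme.{u}) := hV
  haveI : CompactSpace (W : Scheme.{u}) := (quasiCompact_iff_compactSpace (f ∣_ V)).1 inferInstance
  haveI : QuasiSeparatedSpace (W : Scheme.{u}) := (quasiSeparated_iff_quasiSeparatedSpace (f ∣_ V)).1 inferInstance
  -- constructibility on `W`
  have h1 : IsLocallyConstructible (pullback.fst f g '' (MoreMor.sectionComponents (pullback.snd f g) (sec f g σ hσ))ᶜ) :=
    (pullback.fst f g).isLocallyConstructible_image (compl_locallyConstructible hC)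
  have h2 : IsLocallyConstructible (Set.range g) := by
    rw [← Set.image_univ]
    exact g.isLocallyConstructible_image .univ
  have h2' : IsLocallyConstructible (f ⁻¹' Set.range g) := fun x => by
    obtain ⟨_, ⟨(U : Y.Opens), hU, rfl⟩, hxU, -⟩ := Y.isBasis_affineOpens.exists_subset_of_mem_open
      (Set.mem_univ (f x)) isOpen_univ
    haveI : CompactSpace (U : Scheme.{u}) := isCompact_iff_compactSpace.mp hU.isCompact
    haveI : QuasiSeparatedSpace (U : Scheme.{u}) := by
      haveI : IsAffine (U : Scheme.{u}) := hU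
      infer_instance
    refine ⟨f ⁻¹ᵁ U, (f ⁻¹ᵁ U).isOpen.mem_nhds hxU, (f ⁻¹ᵁ U).isOpen, ?_⟩
    have h := (f ∣_ U).isConstructible_preimage (h2.preimage_of_isOpenEmbedding U.ι.isOpenEmbedding).isConstructible
    rwa [← Set.preimage_comp, show (⇑U.ι ∘ ⇑(f ∣_ U)) = ⇑f ∘ ⇑(f ⁻¹ᵁ U).ι from funext fun a => by
      show U.ι ((f ∣_ U) a) = f ((f ⁻¹ᵁ U).ι a)
      rw [← Scheme.Hom.comp_apply, ← Scheme.Hom.comp_apply, morphismRestrict_ι]] at h
  have h3 : IsConstructible (⇑W.ι ⁻¹' good f g σ hσ) :=
    ((h2'.inter (compl_locallyConstructible h1)).preimage_of_isOpenEmbedding W.ι.isOpenEmbedding).isConstructible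
  have h4 := (isCompact_of_isConstructible h3).image W.ι.continuous
  rwa [Set.image_preimage_eq_inter_range, Scheme.Opens.range_ι] at h4

theorem fibre_subset_good {y : Y} (hy : y ∈ Set.range g)
    (hXy : GeometricallyConnected (f.fiberToSpecResidueField y)) : f ⁻¹' {y} ⊆ good f g σ hσ := by
  intro x hx
  rw [mem_good]
  have hx' : f x = y := hx
  refine ⟨hx' ▸ hy, fun q hq => ?_⟩
  let fZ := pullback.snd f g
  let s := sec f g σ hσ
  obtain ⟨z, hz⟩ : ∃ z, fZ q = z := ⟨_, rfl⟩
  have hgz : g z = y := by
    rw [← hz, ← hx', ← hq, ← Scheme.Hom.comp_apply, ← Scheme.Hom.comp_apply, pullback.condition]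
  subst hgz
  let ff := f.fiberToSpecResidueField (g z)
  let ψ : Spec (Z.residueField z) ⟶ Spec (Y.residueField (g z)) := Spec.map (g.residueFieldMap z)
  have hψ : ψ ≫ Y.fromSpecResidueField (g z) = Z.fromSpecResidueField z ≫ g :=
    Scheme.Hom.SpecMap_residueFieldMap_fromSpecResidueField g z
  let π : fZ.fiber z ⟶ f.fiber (g z) := pullback.lift (fZ.fiberι z ≫ pullback.fst f g)
    (fZ.fiberToSpecResidueField z ≫ ψ) (by
      rw [Category.assoc, Category.assoc, hψ, pullback.condition, ← Category.assoc, ← Category.assoc]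
      exact congrArg (fun φ => φ ≫ g) pullback.condition)
  have hsq : IsPullback π (fZ.fiberToSpecResidueField z) ff ψ := by
    refine IsPullback.of_right ?_ (pullback.lift_snd _ _ _)
      (IsPullback.of_hasPullback f (Y.fromSpecResidueField (g z)))
    rw [show π ≫ pullback.fst f (Y.fromSpecResidueField (g z)) = fZ.fiberι z ≫ pullback.fst f g from
      pullback.lift_fst _ _ _, hψ]
    exact (IsPullback.of_hasPullback _ _).paste_horiz (IsPullback.of_hasPullback f g)
  haveI : ConnectedSpace ↥(fZ.fiber z) :=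
    hXy.geometrically_connectedSpace (K := Z.residueField z) ψ π (fZ.fiberToSpecResidueField z) hsq
  have hpre : _root_.IsPreconnected (fZ ⁻¹' {z}) := by
    rw [← fZ.range_fiberι z]
    exact (isConnected_range (fZ.fiberι z).continuous).isPreconnected
  have hsz : fZ (s z) = z := by
    rw [← Scheme.Hom.comp_apply, show s ≫ fZ = 𝟙 Z from pullback.lift_snd _ _ _]
    rfl
  show q ∈ connectedComponentIn (fZ ⁻¹' {fZ q}) (s (fZ q))
  rw [hz]
  exact hpre.subset_connectedComponentIn hsz subset_rfl hz

/-- Over an algebraically closed field, the trace of `good` is empty or a connected component. -/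
theorem isConnected_preimage_good (hg : IsFinite g) {Ω : Type u} [Field Ω] [IsAlgClosed Ω]
    (t : Spec (CommRingCat.of Ω) ⟶ Y) (hne : (pullback.fst f t ⁻¹' good f g σ hσ).Nonempty) :
    _root_.IsConnected (pullback.fst f t ⁻¹' good f g σ hσ) := by
  let fT := pullback.snd f t
  let s := sec f g σ hσ
  let fZ := pullback.snd f g
  let c := IsLocalRing.closedPoint Ω
  have hpt : ∀ a : Spec (CommRingCat.of Ω), a = c := fun a => Subsingleton.elim a c
  haveI : IsFinite (pullback.fst t g) := MorphismProperty.pullback_fst t g hg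
  have hrat : ∀ ζ : ↥(pullback t g), IsClosed {ζ} := fun ζ => by
    haveI : Finite ↥(pullback t g) := by
      haveI : Finite ↥(⇑(pullback.fst t g) ⁻¹' {c}) :=
        (Scheme.Hom.finite_preimage_singleton (pullback.fst t g) c).to_subtype
      have hu : ⇑(pullback.fst t g) ⁻¹' {c} = Set.univ := Set.eq_univ_of_forall fun a => hpt _
      exact Set.finite_univ_iff.mp (hu ▸ Set.toFinite _)
    haveI : JacobsonSpace ↥(pullback t g) := LocallyOfFiniteType.jacobsonSpace (pullback.fst t g)
    exact isClosed_discrete _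
  -- components attached to lifts
  let o : ∀ t₁ : Spec (CommRingCat.of Ω) ⟶ Z, t₁ ≫ g = t → ↥(pullback f t) := fun t₁ ht₁ =>
    pullback.lift (t₁ ≫ σ) (𝟙 _) (by rw [Category.assoc, hσ, ht₁, Category.id_comp]) c
  let S : ∀ t₁ : Spec (CommRingCat.of Ω) ⟶ Z, t₁ ≫ g = t → (pullback f t ⟶ pullback f g) := fun t₁ ht₁ =>
    pullback.lift (pullback.fst f t) (fT ≫ t₁) (by rw [Category.assoc, ht₁, pullback.condition])
  have hcomp : ∀ (t₁) (ht₁ : t₁ ≫ g = t) (x' : ↥(pullback f t)),
      S t₁ ht₁ x' ∈ MoreMor.sectionComponents fZ s ↔ x' ∈ connectedComponent (o t₁ ht₁) := by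
    intro t₁ ht₁ x'
    have hsq : IsPullback (S t₁ ht₁) fT fZ t₁ := by
      refine IsPullback.of_right ?_ (pullback.lift_snd _ _ _) (IsPullback.of_hasPullback f g)
      rw [show S t₁ ht₁ ≫ pullback.fst f g = pullback.fst f t from pullback.lift_fst _ _ _, ht₁]
      exact IsPullback.of_hasPullback f t
    have hb := SecComp6.sectionComponents_baseChange fZ s (pullback.lift_snd _ _ _) fT (S t₁ ht₁) t₁ hsq
      (pullback.lift (t₁ ≫ σ) (𝟙 _) (by rw [Category.assoc, hσ, ht₁, Category.id_comp]))
      (pullback.lift_snd _ _ _) (by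
        apply pullback.hom_ext
        · simp only [S, s, sec, Category.assoc, pullback.lift_fst]
        · simp only [S, s, sec, fT, Category.assoc, pullback.lift_snd, pullback.lift_snd_assoc, Category.id_comp,
            Category.comp_id])
    rw [← Set.mem_preimage, ← hb]
    have hu : fT ⁻¹' {fT x'} = Set.univ := Set.eq_univ_of_forall fun a => Subsingleton.elim _ _
    show x' ∈ connectedComponentIn (fT ⁻¹' {fT x'}) _ ↔ _
    rw [hu, connectedComponentIn_univ, hpt (fT x')]
  -- the points of `pullback.fst f t ⁻¹' good` lie in all these components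
  have hle : ∀ (t₁) (ht₁ : t₁ ≫ g = t),
      pullback.fst f t ⁻¹' good f g σ hσ ⊆ connectedComponent (o t₁ ht₁) := by
    intro t₁ ht₁ x' hx'
    refine (hcomp t₁ ht₁ x').1 (((mem_good f g σ hσ).1 hx').2 _ ?_)
    rw [← Scheme.Hom.comp_apply, pullback.lift_fst]
  -- every point over the trace comes from a lift
  have hlift : ∀ (x' : ↥(pullback f t)) (q : ↥(pullback f g)), pullback.fst f g q = pullback.fst f t x' →
      ∃ (t₁ : Spec (CommRingCat.of Ω) ⟶ Z) (ht₁ : t₁ ≫ g = t), S t₁ ht₁ x' = q := by
    intro x' q hq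
    obtain ⟨r, hr₁, hr₂⟩ := Scheme.Pullback.exists_preimage_pullback (f := pullback.fst f t)
      (g := pullback.fst f g) x' q hq.symm
    let R := pullback (pullback.fst f t) (pullback.fst f g)
    let a : R ⟶ Spec (CommRingCat.of Ω) := pullback.fst _ _ ≫ fT
    let b : R ⟶ Z := pullback.snd _ _ ≫ fZ
    let w : R ⟶ pullback t g := pullback.lift a b (by
      simp only [a, b, fT, fZ, Category.assoc]
      rw [← pullback.condition, ← pullback.condition, ← Category.assoc, pullback.condition, Category.assoc])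
    let ζ := w r
    let P := pointOfClosedPoint (pullback.fst t g) ζ (hrat ζ)
    let t₁ := P ≫ pullback.snd t g
    have ht₁ : t₁ ≫ g = t := by
      rw [Category.assoc, ← pullback.condition, pointOfClosedPoint_comp_assoc]
    refine ⟨t₁, ht₁, ?_⟩
    -- at the residue field of `r`, `w` factors through `P`
    have hw : R.fromSpecResidueField r ≫ w = (R.fromSpecResidueField r ≫ a) ≫ P := by
      have e1 : R.fromSpecResidueField r ≫ w =
          Spec.map (w.residueFieldMap r) ≫ (pullback t g).fromSpecResidueField ζ :=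
        (Scheme.Hom.SpecMap_residueFieldMap_fromSpecResidueField w r).symm
      have e2 : a = w ≫ pullback.fst t g := (pullback.lift_fst _ _ _).symm
      rw [e2, ← Category.assoc (R.fromSpecResidueField r), e1, Category.assoc, Category.assoc]
      congr 1
      simp only [P, pointOfClosedPoint]
      rw [← Category.assoc, ← Category.assoc, ← SpecMap_residueFieldIsoBase_inv (pullback.fst t g) ζ (hrat ζ),
        ← Spec.map_comp, Iso.hom_inv_id, Spec.map_id, Category.id_comp]
    have hb : R.fromSpecResidueField r ≫ b = (R.fromSpecResidueField r ≫ a) ≫ t₁ := by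
      rw [show b = w ≫ pullback.snd t g from (pullback.lift_snd _ _ _).symm, ← Category.assoc, hw, Category.assoc]
    have hS : R.fromSpecResidueField r ≫ pullback.snd _ _ =
        (R.fromSpecResidueField r ≫ pullback.fst _ _) ≫ S t₁ ht₁ := by
      apply pullback.hom_ext
      · simp only [S, Category.assoc, pullback.lift_fst]
        rw [pullback.condition]
      · simp only [S, Category.assoc, pullback.lift_snd]
        simpa only [a, b, fZ, Category.assoc] using hb
    obtain ⟨c'⟩ := (inferInstance : Nonempty ↥(Spec (R.residueField r)))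
    have := congrArg (fun φ => φ c') hS
    simp only [Scheme.Hom.comp_apply, Scheme.fromSpecResidueField_apply] at this
    rw [hr₁, hr₂] at this
    exact this.symm
  obtain ⟨x₀, hx₀⟩ := hne
  obtain ⟨⟨z, hz⟩, -⟩ := (mem_good f g σ hσ).1 hx₀
  obtain ⟨q₀, hq₀, -⟩ := Scheme.Pullback.exists_preimage_pullback (f := f) (g := g) (pullback.fst f t x₀) z hz.symm
  obtain ⟨t₀, ht₀, -⟩ := hlift x₀ q₀ hq₀
  suffices h : pullback.fst f t ⁻¹' good f g σ hσ = connectedComponent (o t₀ ht₀) by
    rw [h]
    exact isConnected_connectedComponent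
  refine (hle t₀ ht₀).antisymm fun x' hx' => ?_
  refine (mem_good f g σ hσ).2 ⟨?_, fun q hq => ?_⟩
  · have e : ∀ a, f (pullback.fst f t a) = t c := fun a => by
      rw [← Scheme.Hom.comp_apply, pullback.condition, Scheme.Hom.comp_apply, hpt (pullback.snd f t a)]
    rw [e, ← e x₀]
    exact ⟨z, hz⟩
  · obtain ⟨t₁, ht₁, rfl⟩ := hlift x' q hq
    refine (hcomp t₁ ht₁ x').2 ?_
    rw [connectedComponent_eq (hle t₁ ht₁ hx₀), ← connectedComponent_eq (hle t₀ ht₀ hx₀)]
    exact hx'

/-- An open meeting each fibre in the trace of `good` has geometrically connected fibres over its image. -/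
theorem geometricallyConnected_fibre (hg : IsFinite g) (U : X.Opens) (y : Y)
    (hU : (U : Set X) ∩ f ⁻¹' {y} = good f g σ hσ ∩ f ⁻¹' {y}) (hne : ∃ x ∈ U, f x = y) :
    GeometricallyConnected ((U.ι ≫ f).fiberToSpecResidueField y) := by
  rw [CurveLocus.geometricallyConnected_iff]
  intro Ω _ _ t X' i q hsq
  let t' : Spec (CommRingCat.of Ω) ⟶ Y := t ≫ Y.fromSpecResidueField y
  have hbig : IsPullback (i ≫ (U.ι ≫ f).fiberι y) q (U.ι ≫ f) t' :=
    hsq.paste_horiz (IsPullback.of_hasPullback (U.ι ≫ f) (Y.fromSpecResidueField y))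
  let a := pullback.fst f t'
  let O := a ⁻¹ᵁ U
  have hO : IsPullback (a ∣_ U) (O.ι ≫ pullback.snd f t') (U.ι ≫ f) t' :=
    (isPullback_morphismRestrict a U).paste_vert (IsPullback.of_hasPullback f t')
  have hpt : ∀ x', f (a x') = y := fun x' => by
    rw [← Scheme.Hom.comp_apply, pullback.condition, Scheme.Hom.comp_apply]
    show (t ≫ Y.fromSpecResidueField y) (pullback.snd f t' x') = y
    rw [Scheme.Hom.comp_apply, Scheme.fromSpecResidueField_apply]
  have hset : (O : Set ↥(pullback f t')) = a ⁻¹' good f g σ hσ := by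
    ext x'
    exact ⟨fun h => (hU.le ⟨h, hpt x'⟩).1, fun h => (hU.ge ⟨h, hpt x'⟩).1⟩
  obtain ⟨x, hxU, hxy⟩ := hne
  obtain ⟨x', hx', -⟩ := Scheme.Pullback.exists_preimage_pullback (f := f) (g := t') x
    (IsLocalRing.closedPoint Ω) (by
      rw [hxy]
      exact (Scheme.fromSpecResidueField_apply y _).symm)
  have hne' : (a ⁻¹' good f g σ hσ).Nonempty :=
    ⟨x', hset ▸ (show a x' ∈ (U : Set X) by rw [hx']; exact hxU)⟩
  have hconn : _root_.IsConnected (O : Set ↥(pullback f t')) := hset ▸ isConnected_preimage_good f g σ hσ hg t' hne'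
  haveI : ConnectedSpace ↥(O : Scheme.{u}) := isConnected_iff_connectedSpace.1 hconn
  let e := hO.isoIsPullback _ _ hbig
  exact e.hom.surjective.connectedSpace e.hom.continuous

include hσ in
theorem exists_open [LocallyOfFinitePresentation f] [QuasiCompact f] [QuasiSeparated f] [Flat f]
    [GeometricallyReduced f] (hg : Mor2.IsFinLocFree g) (y : Y) (hy : y ∈ Set.range g)
    (hXy : GeometricallyConnected (f.fiberToSpecResidueField y)) :
    ∃ U : X.Opens, IsCompact (U : Set X) ∧ f ⁻¹' {y} ⊆ (U : Set X) ∧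
      ∀ y' : Y, (∃ x ∈ U, f x = y') → GeometricallyConnected ((U.ι ≫ f).fiberToSpecResidueField y') := by
  obtain ⟨_, ⟨(V : Y.Opens), hV, rfl⟩, hyV, -⟩ := Y.isBasis_affineOpens.exists_subset_of_mem_open
    (Set.mem_univ y) isOpen_univ
  refine ⟨⟨good f g σ hσ ∩ f ⁻¹' (V : Set Y), (isOpen_good f g σ hσ hg).inter (V.isOpen.preimage f.continuous)⟩,
    isCompact_good_inter f g σ hσ hg hV,
    fun x hx => ⟨fibre_subset_good f g σ hσ hy hXy hx,
      show f x ∈ V by rw [show f x = y from hx]; exact hyV⟩, fun y' hy' => ?_⟩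
  refine geometricallyConnected_fibre f g σ hσ hg.1 _ y' ?_ hy'
  obtain ⟨x, hx, hxy⟩ := hy'
  ext a
  constructor
  · exact fun h => ⟨h.1.1, h.2⟩
  · exact fun h => ⟨⟨h.1, show f a ∈ V by rw [show f a = y' from h.2, ← hxy]; exact hx.2⟩, h.2⟩

end GrothLib.ConnOpen6
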