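import Groth.Agent.S1550
import Groth.Agent.Lib.SepPts.SmoothDense
import Groth.Agent.Lib.FibreLocus.SmoothPoint
import Groth.Agent.Lib.GenericSmooth.Basic

/-!
# Smooth points with separable residue field in open pieces of geometrically reduced fibres
-/

set_option autoImplicit false
set_option linter.style.haveILetI false

universe u

open CategoryTheory CategoryTheory.Limits AlgebraicGeometry TopologicalSpace Topology

namespace GrothLib.ConnOpen6

theorem bijective_residueFieldMap_preimmersion {A B : Scheme.{u}} (i : A ⟶ B) [IsPreimmersion i] (a : A) :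
    Function.Bijective (i.residueFieldMap a) := by
  refine ⟨(i.residueFieldMap a).hom.injective, fun z ↦ ?_⟩
  obtain ⟨z, rfl⟩ := IsLocalRing.residue_surjective z
  obtain ⟨w, rfl⟩ := i.stalkMap_surjective a z
  exact ⟨B.residue _ w, ConcreteCategory.congr_hom (Scheme.residue_residueFieldMap i a) w⟩

theorem isSeparable_of_point {X S : Scheme.{u}} (f : X ⟶ S) (x : X) (s : S) (hs : f x = s) {A : Scheme.{u}} {p : A}
    (φ : S.residueField s ⟶ A.residueField p) (e : X.residueField x ⟶ A.residueField p) (he : Function.Bijective e)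
    (h : Spec.map φ ≫ S.fromSpecResidueField s = Spec.map e ≫ X.fromSpecResidueField x ≫ f)
    (hsep : @Algebra.IsSeparable (S.residueField s) (A.residueField p) _ _ φ.hom.toAlgebra) :
    @Algebra.IsSeparable (S.residueField (f x)) (X.residueField x) _ _ (f.residueFieldMap x).hom.toAlgebra := by
  subst hs
  have hφ : φ = f.residueFieldMap x ≫ e := by
    apply Spec.map_injective
    rw [← cancel_mono (S.fromSpecResidueField (f x)), h, Spec.map_comp, Category.assoc,
      Scheme.Hom.SpecMap_residueFieldMap_fromSpecResidueField]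
  letI := (f.residueFieldMap x).hom.toAlgebra
  letI : Algebra (S.residueField (f x)) (A.residueField p) := φ.hom.toAlgebra
  haveI := hsep
  let ea : X.residueField x →ₐ[S.residueField (f x)] A.residueField p :=
    { e.hom with commutes' := fun c => (RingHom.congr_fun (congrArg CommRingCat.Hom.hom hφ) c).symm }
  exact Algebra.IsSeparable.of_algHom (S.residueField (f x)) (A.residueField p) ea

theorem exists_smooth_separable_point {X S : Scheme.{u}} (f : X ⟶ S) [Flat f] [LocallyOfFinitePresentation f]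
    [GeometricallyReduced f] (s : S) (T : (f.fiber s).Opens) (hT : (T : Set ↥(f.fiber s)).Nonempty) :
    ∃ (X₁ : X.Opens) (x : (X₁ : Scheme.{u})), Smooth (X₁.ι ≫ f) ∧ f (X₁.ι x) = s ∧
      X₁.ι x ∈ f.fiberι s '' (T : Set ↥(f.fiber s)) ∧
      IsClosed ({(X₁.ι ≫ f).asFiber x} : Set ↑((X₁.ι ≫ f).fiber ((X₁.ι ≫ f) x))) ∧
      @Algebra.IsSeparable (S.residueField ((X₁.ι ≫ f) x)) ((X₁ : Scheme.{u}).residueField x) _ _
        ((X₁.ι ≫ f).residueFieldMap x).hom.toAlgebra := by
  let ff := f.fiberToSpecResidueField s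
  haveI : LocallyOfFinitePresentation ff := MorphismProperty.pullback_snd f (S.fromSpecResidueField s) inferInstance
  let O : (f.fiber s).Opens := T ⊓ ff.smoothLocus
  have hO : (O : Set ↥(f.fiber s)).Nonempty :=
    (SepPts.dense_smoothLocus (k := S.residueField s) ff).inter_open_nonempty _ T.isOpen hT
  let qO : (O : Scheme.{u}) ⟶ Spec (CommRingCat.of (S.residueField s)) := O.ι ≫ ff
  haveI hsmO : Smooth qO := by
    have h1 : Smooth (ff.smoothLocus.ι ≫ ff) := GenericSmooth.smooth_smoothLocus_ι_comp ff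
    show Smooth (O.ι ≫ ff)
    rw [← Scheme.homOfLE_ι _ (inf_le_right : O ≤ ff.smoothLocus), Category.assoc]
    infer_instance
  letI : (O : Scheme.{u}).Over (Spec (CommRingCat.of (S.residueField s))) := ⟨qO⟩
  haveI : Smooth ((O : Scheme.{u}) ↘ Spec (CommRingCat.of (S.residueField s))) := hsmO
  obtain ⟨p, ⟨hpc, -, hpsep⟩, -⟩ := (Groth.Agent.S1550.result (S.residueField s) (O : Scheme.{u})).exists_mem_open
    isOpen_univ ⟨⟨_, hO.some_mem⟩, trivial⟩
  let p₀ := O.ι p
  let x₀ := f.fiberι s p₀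
  have hx₀ : f x₀ = s := (f.range_fiberι s).le ⟨p₀, rfl⟩
  -- an open of `X` with trace `O`
  obtain ⟨W₀, hW₀, hW₀O⟩ := (f.fiberι s).isEmbedding.isInducing.isOpen_iff.1 O.isOpen
  let W : X.Opens := ⟨W₀, hW₀⟩
  have hxW : x₀ ∈ W := hW₀O.ge p.2
  haveI : Flat (W.ι ≫ f) := inferInstance
  have hsmW : Smooth ((W.ι ≫ f).fiberToSpecResidueField s) := by
    let gg := (W.ι ≫ f).fiberToSpecResidueField s
    let j : (W.ι ≫ f).fiber s ⟶ f.fiber s := pullback.lift ((W.ι ≫ f).fiberι s ≫ W.ι) gg (by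
      rw [Category.assoc]; exact pullback.condition)
    have hjff : j ≫ ff = gg := pullback.lift_snd _ _ _
    have sqj : IsPullback ((W.ι ≫ f).fiberι s) j W.ι (f.fiberι s) := by
      refine IsPullback.of_bot ?_ (pullback.lift_fst _ _ _).symm (IsPullback.of_hasPullback f (S.fromSpecResidueField s))
      refine Eq.mpr (congrArg (fun φ => IsPullback _ φ _ _) hjff) ?_
      exact IsPullback.of_hasPullback _ _
    haveI : IsOpenImmersion j := MorphismProperty.of_isPullback sqj (inferInstance : IsOpenImmersion W.ι)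
    have hrange : Set.range j ⊆ Set.range O.ι := by
      rintro _ ⟨a, rfl⟩
      rw [Scheme.Opens.range_ι, ← hW₀O]
      show f.fiberι s (j a) ∈ W₀
      rw [← Scheme.Hom.comp_apply, show j ≫ f.fiberι s = (W.ι ≫ f).fiberι s ≫ W.ι from pullback.lift_fst _ _ _]
      exact ((W.ι ≫ f).fiberι s a).2
    let j' := IsOpenImmersion.lift O.ι j hrange
    haveI : IsOpenImmersion j' := by
      haveI : IsOpenImmersion (j' ≫ O.ι) := by rw [IsOpenImmersion.lift_fac]; infer_instance
      exact IsOpenImmersion.of_comp j' O.ι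
    show Smooth gg
    rw [← hjff, ← IsOpenImmersion.lift_fac O.ι j hrange, Category.assoc]
    infer_instance
  obtain ⟨U, hxU, hU⟩ := FibreLocus.smooth_nhd_of_smooth_fibre (W.ι ≫ f) ⟨x₀, hxW⟩ (by
    rw [show (W.ι ≫ f) ⟨x₀, hxW⟩ = s from hx₀]
    exact hsmW)
  let X₁ : X.Opens := W.ι ''ᵁ U
  have hsm₁ : Smooth (X₁.ι ≫ f) := by
    rw [← Scheme.Hom.isoImage_inv_ι W.ι U, Category.assoc, Category.assoc,
      MorphismProperty.cancel_left_of_respectsIso @Smooth]
    exact hU
  let x : (X₁ : Scheme.{u}) := ⟨x₀, ⟨⟨x₀, hxW⟩, hxU, rfl⟩⟩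
  refine ⟨X₁, x, hsm₁, hx₀, ⟨p₀, p.2.1, rfl⟩, ?_, ?_⟩
  · -- closed in the fibre
    have hp₀ : IsClosed ({p₀} : Set ↥(f.fiber s)) := by
      haveI : JacobsonSpace ↥(f.fiber s) := LocallyOfFiniteType.jacobsonSpace ff
      have : IsLocallyClosed ({p₀} : Set ↥(f.fiber s)) := by
        rw [show ({p₀} : Set ↥(f.fiber s)) = O.ι '' {p} from (Set.image_singleton (f := O.ι) (a := p)).symm]
        exact hpc.isLocallyClosed.image O.ι.isEmbedding.isInducing O.ι.isOpenEmbedding.isOpen_range.isLocallyClosed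
      exact isClosed_singleton_of_isLocallyClosed_singleton this
    obtain ⟨C, hC, hCp⟩ := (f.fiberι s).isEmbedding.isInducing.isClosed_iff.1 hp₀
    let ι₁ := (X₁.ι ≫ f).fiberι ((X₁.ι ≫ f) x) ≫ X₁.ι
    have hinj : Function.Injective ι₁ := fun a b hab =>
      ((X₁.ι ≫ f).fiberι _).isEmbedding.injective (X₁.ι.isEmbedding.injective hab)
    have hx₁ : ι₁ ((X₁.ι ≫ f).asFiber x) = x₀ := by
      show X₁.ι ((X₁.ι ≫ f).fiberι _ ((X₁.ι ≫ f).asFiber x)) = x₀
      rw [Scheme.Hom.fiberι_asFiber]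
      rfl
    have : ({(X₁.ι ≫ f).asFiber x} : Set ↑((X₁.ι ≫ f).fiber ((X₁.ι ≫ f) x))) = ι₁ ⁻¹' C := by
      ext a
      refine ⟨fun ha => ?_, fun ha => hinj ?_⟩
      · rw [Set.mem_singleton_iff.1 ha]
        show ι₁ _ ∈ C
        rw [hx₁]
        exact hCp.ge rfl
      · have hfa : f (ι₁ a) = s := by
          have := ((X₁.ι ≫ f).range_fiberι ((X₁.ι ≫ f) x)).le ⟨a, rfl⟩
          exact (show f (ι₁ a) = (X₁.ι ≫ f) x from this).trans hx₀
        obtain ⟨b, hb⟩ := (f.range_fiberι s).ge hfa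
        have hb' : b = p₀ := hCp.le (show f.fiberι s b ∈ C by rw [hb]; exact ha)
        rw [hx₁, ← hb, hb']
    rw [this]
    exact hC.preimage ι₁.continuous
  · -- separable
    let ι₀ : (O : Scheme.{u}) ⟶ X := O.ι ≫ f.fiberι s
    let φ : S.residueField s ⟶ (O : Scheme.{u}).residueField p :=
      CommRingCat.ofHom (AffDom.toRes (K := S.residueField s) qO p)
    let e₁ : X.residueField x₀ ⟶ (X₁ : Scheme.{u}).residueField x := X₁.ι.residueFieldMap x
    haveI : IsIso e₁ := (ConcreteCategory.isIso_iff_bijective _).2 (bijective_residueFieldMap_preimmersion X₁.ι x)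
    let e₂ : X.residueField x₀ ⟶ (O : Scheme.{u}).residueField p := ι₀.residueFieldMap p
    haveI : IsIso e₂ := (ConcreteCategory.isIso_iff_bijective _).2 (bijective_residueFieldMap_preimmersion ι₀ p)
    refine isSeparable_of_point (X₁.ι ≫ f) x s hx₀ φ (inv e₁ ≫ e₂) (ConcreteCategory.bijective_of_isIso _) ?_ ?_
    · rw [show Spec.map φ = (O : Scheme.{u}).fromSpecResidueField p ≫ qO from AffDom.SpecMap_toRes _ _,
        Category.assoc]
      have h₁ : (X₁ : Scheme.{u}).fromSpecResidueField x ≫ X₁.ι = Spec.map e₁ ≫ X.fromSpecResidueField x₀ :=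
        (Scheme.Hom.SpecMap_residueFieldMap_fromSpecResidueField X₁.ι x).symm
      have h₂ : (O : Scheme.{u}).fromSpecResidueField p ≫ ι₀ = Spec.map e₂ ≫ X.fromSpecResidueField x₀ :=
        (Scheme.Hom.SpecMap_residueFieldMap_fromSpecResidueField ι₀ p).symm
      have h₃ : qO ≫ S.fromSpecResidueField s = ι₀ ≫ f := by
        show (O.ι ≫ ff) ≫ _ = (O.ι ≫ _) ≫ f
        rw [Category.assoc, Category.assoc]
        exact congrArg (O.ι ≫ ·) pullback.condition.symm
      rw [h₃, reassoc_of% h₂, reassoc_of% h₁, ← Spec.map_comp_assoc]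
      refine congrArg (fun ψ => Spec.map ψ ≫ X.fromSpecResidueField x₀ ≫ f) ?_
      simp only [IsIso.hom_inv_id_assoc]
    · rw [show φ.hom = Curv2.resMap (S.residueField s) (O : Scheme.{u}) p from
        (Groth.Agent.S1550.resMap_eq _ _ p).symm]
      exact hpsep

end GrothLib.ConnOpen6
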