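import Groth.Agent.Lib.ConnOpen6.Main
import Groth.Agent.Lib.ConnOpen6.SmoothPoint
import Groth.Agent.S0413
import Groth.Agent.S1353
import Mathlib.AlgebraicGeometry.Morphisms.Etale

/-!
# Spreading out geometrically connected opens of fibres over etale neighbourhoods
-/

set_option autoImplicit false
set_option linter.style.haveILetI false

universe u

open CategoryTheory CategoryTheory.Limits AlgebraicGeometry TopologicalSpace Topology

namespace GrothLib.ConnOpen6

theorem connectedSpace_of_fiber {X Y : Scheme.{u}} {f : X ⟶ Y} {y : Y}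
    (hf : GeometricallyConnected (f.fiberToSpecResidueField y)) {Ω : Type u} [Field Ω]
    (t : Spec (CommRingCat.of Ω) ⟶ Y) (hy : t (IsLocalRing.closedPoint Ω) = y) {X' : Scheme.{u}}
    {i : X' ⟶ X} {q : X' ⟶ Spec (CommRingCat.of Ω)} (h : IsPullback i q f t) : ConnectedSpace ↥X' := by
  subst hy
  obtain ⟨σ, hσ⟩ : ∃ σ : Spec (CommRingCat.of Ω) ⟶ Spec (Y.residueField (t (IsLocalRing.closedPoint Ω))),
      σ ≫ Y.fromSpecResidueField (t (IsLocalRing.closedPoint Ω)) = t :=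
    ⟨_, Scheme.descResidueField_stalkClosedPointTo_fromSpecResidueField Ω Y t⟩
  let π : X' ⟶ f.fiber (t (IsLocalRing.closedPoint Ω)) :=
    pullback.lift i (q ≫ σ) (by rw [Category.assoc, hσ]; exact h.w)
  have hsq : IsPullback π q (f.fiberToSpecResidueField (t (IsLocalRing.closedPoint Ω))) σ := by
    refine IsPullback.of_right ?_ (pullback.lift_snd _ _ _)
      (IsPullback.of_hasPullback f (Y.fromSpecResidueField _))
    rw [show π ≫ pullback.fst f (Y.fromSpecResidueField (t (IsLocalRing.closedPoint Ω))) = i from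
      pullback.lift_fst _ _ _, hσ]
    exact h
  exact hf.geometrically_connectedSpace σ π q hsq

theorem connectedSpace_iff_preimage {X Y : Scheme.{u}} (f : X ⟶ Y) (U : X.Opens) {S : Scheme.{u}}
    (t : S ⟶ Y) {X' : Scheme.{u}} {i : X' ⟶ U} {q : X' ⟶ S} (h : IsPullback i q (U.ι ≫ f) t) :
    ConnectedSpace ↥X' ↔ _root_.IsConnected (pullback.fst f t ⁻¹' (U : Set X)) := by
  let a := pullback.fst f t
  let O := a ⁻¹ᵁ U
  have hO : IsPullback (a ∣_ U) (O.ι ≫ pullback.snd f t) (U.ι ≫ f) t :=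
    (isPullback_morphismRestrict a U).paste_vert (IsPullback.of_hasPullback f t)
  let e := hO.isoIsPullback _ _ h
  refine ⟨fun _ => isConnected_iff_connectedSpace.2 (e.inv.surjective.connectedSpace e.inv.continuous), fun hc => ?_⟩
  haveI : ConnectedSpace ↥(O : Scheme.{u}) := isConnected_iff_connectedSpace.1 hc
  exact e.hom.surjective.connectedSpace e.hom.continuous

theorem geometricallyReduced_open_comp {X Y : Scheme.{u}} (f : X ⟶ Y) [GeometricallyReduced f] (U : X.Opens) :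
    GeometricallyReduced (U.ι ≫ f) := by
  refine ⟨fun K _ t X' i q h => ?_⟩
  let a := pullback.fst f t
  have hO : IsPullback (a ∣_ U) ((a ⁻¹ᵁ U).ι ≫ pullback.snd f t) (U.ι ≫ f) t :=
    (isPullback_morphismRestrict a U).paste_vert (IsPullback.of_hasPullback f t)
  haveI : IsReduced (pullback f t) :=
    GeometricallyReduced.geometrically_isReduced (f := f) t _ _ (IsPullback.of_hasPullback f t)
  exact isReduced_of_isOpenImmersion ((h.isoIsPullback _ _ hO).hom ≫ (a ⁻¹ᵁ U).ι)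

theorem geometricallyConnected_fiber_of_trace {X Y : Scheme.{u}} (f : X ⟶ Y) (y : Y) (W : X.Opens)
    (T : (f.fiber y).Opens) (hW : (f.fiberι y) ⁻¹' (W : Set X) = (T : Set ↥(f.fiber y)))
    (hT : GeometricallyConnected (T.ι ≫ f.fiberToSpecResidueField y)) :
    GeometricallyConnected ((W.ι ≫ f).fiberToSpecResidueField y) := by
  let ff := f.fiberToSpecResidueField y
  let gg := (W.ι ≫ f).fiberToSpecResidueField y
  let j : (W.ι ≫ f).fiber y ⟶ f.fiber y := pullback.lift ((W.ι ≫ f).fiberι y ≫ W.ι) gg (by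
    rw [Category.assoc]; exact pullback.condition)
  have hjff : j ≫ ff = gg := pullback.lift_snd _ _ _
  have sqj : IsPullback ((W.ι ≫ f).fiberι y) j W.ι (f.fiberι y) := by
    refine IsPullback.of_bot ?_ (pullback.lift_fst _ _ _).symm (IsPullback.of_hasPullback f (Y.fromSpecResidueField y))
    refine Eq.mpr (congrArg (fun φ => IsPullback _ φ _ _) hjff) ?_
    exact IsPullback.of_hasPullback _ _
  haveI : IsOpenImmersion j := MorphismProperty.of_isPullback sqj (inferInstance : IsOpenImmersion W.ι)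
  have hjι : ∀ b, f.fiberι y (j b) = W.ι ((W.ι ≫ f).fiberι y b) := fun b => by
    rw [← Scheme.Hom.comp_apply, ← Scheme.Hom.comp_apply,
      show j ≫ f.fiberι y = (W.ι ≫ f).fiberι y ≫ W.ι from pullback.lift_fst _ _ _]
  have hrange : Set.range j = Set.range T.ι := by
    rw [Scheme.Opens.range_ι, ← hW]
    refine Set.Subset.antisymm ?_ fun a ha => ?_
    · rintro _ ⟨b, rfl⟩
      show f.fiberι y (j b) ∈ W
      rw [hjι]
      exact ((W.ι ≫ f).fiberι y b).2
    · have hfa : f (f.fiberι y a) = y := (f.range_fiberι y).le ⟨a, rfl⟩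
      obtain ⟨b, hb⟩ := ((W.ι ≫ f).range_fiberι y).ge (show (W.ι ≫ f) ⟨f.fiberι y a, ha⟩ = y from hfa)
      exact ⟨b, (f.fiberι y).isEmbedding.injective (by rw [hjι, hb]; rfl)⟩
  let e := IsOpenImmersion.isoOfRangeEq j T.ι hrange
  rw [CurveLocus.geometricallyConnected_iff]
  intro Ω _ _ t X' i q hsq
  refine hT.geometrically_connectedSpace t (i ≫ e.hom) q ?_
  refine hsq.of_iso (Iso.refl _) e (Iso.refl _) (Iso.refl _) (by simp) (by simp) ?_ (by simp)
  simp only [Iso.refl_hom, Category.comp_id]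
  rw [← Category.assoc, IsOpenImmersion.isoOfRangeEq_hom_fac]
  exact hjff.symm

theorem exists_spread {Y S : Scheme.{u}} (h : Y ⟶ S) [Flat h] [LocallyOfFinitePresentation h] [QuasiCompact h]
    [QuasiSeparated h] [GeometricallyReduced h] (s : S) (T : (h.fiber s).Opens)
    (hT : GeometricallyConnected (T.ι ≫ h.fiberToSpecResidueField s)) :
    ∃ (S' : Scheme.{u}) (g : S' ⟶ S) (s' : S'), IsAffine S' ∧ Hens2.IsEtaleNbhd g s' s ∧
      ∃ V : (pullback h g).Opens, IsCompact (V : Set ↑(pullback h g)) ∧ GeometricallyConnected (V.ι ≫ pullback.snd h g) ∧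
        ∀ y' : ↑(pullback h g), pullback.snd h g y' = s' → (y' ∈ V ↔ pullback.fst h g y' ∈ (h.fiberι s) '' (T : Set ↑(h.fiber s))) := by
  haveI hTne : ConnectedSpace ↥(T : Scheme.{u}) :=
    hT.geometrically_connectedSpace (K := S.residueField s) (𝟙 _) (𝟙 _) (T.ι ≫ h.fiberToSpecResidueField s)
      (IsPullback.of_horiz_isIso ⟨by simp⟩)
  obtain ⟨a₀⟩ : Nonempty ↥(T : Scheme.{u}) := hTne.toNonempty
  obtain ⟨X₁, x, hsm, hxs, ⟨p, hpT, hpx⟩, hcl, hsep⟩ :=
    exists_smooth_separable_point h s T ⟨_, a₀.2⟩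
  obtain ⟨Z, i, z, _, hetq, hiz, huniq⟩ := Groth.Agent.S0413.result (X₁.ι ≫ h) x hcl hsep
  let q := i ≫ X₁.ι ≫ h
  haveI : Etale q := hetq
  have hqz : q z = s := by
    show h (X₁.ι (i z)) = s
    rw [hiz]; exact hxs
  have hqf : q.QuasiFiniteAt z := by
    rw [Scheme.Hom.quasiFiniteAt_iff_isOpen_singleton_asFiber]
    have : ({q.asFiber z} : Set ↑(q.fiber (q z))) = Set.univ := by
      refine Set.eq_univ_of_forall fun w => Set.mem_singleton_iff.2 ((q.fiberι _).isEmbedding.injective ?_)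
      rw [Scheme.Hom.fiberι_asFiber]
      refine huniq _ ?_
      have hw : q (q.fiberι (q z) w) = q z := (q.range_fiberι _).le ⟨w, rfl⟩
      exact hw.trans (hqz.trans hxs.symm)
    rw [this]
    exact isOpen_univ
  obtain ⟨U, g, u, hgu, V, v, hvV, hfinV, hvu, hvuniq, hvz, -⟩ := Groth.Agent.S1353.result q z hqf
  rw [hqz] at hgu
  haveI := hgu.etale
  let π := V.ι ≫ pullback.snd q g
  haveI : IsFinite π := hfinV
  haveI : Etale (pullback.snd q g) := MorphismProperty.pullback_snd q g inferInstance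
  haveI : Etale π := inferInstance
  let τ : (V : Scheme.{u}) ⟶ pullback h g :=
    pullback.lift (V.ι ≫ pullback.fst q g ≫ i ≫ X₁.ι) π (by
      simp only [π, Category.assoc]
      exact congrArg (V.ι ≫ ·) pullback.condition)
  obtain ⟨O₀', hO₀', hO₀T⟩ := (h.fiberι s).isEmbedding.isInducing.isOpen_iff.1 T.isOpen
  let O₀ : Y.Opens := ⟨O₀', hO₀'⟩
  have hO₀ : (h.fiberι s) ⁻¹' (O₀ : Set Y) = (T : Set ↥(h.fiber s)) := hO₀T
  have hbad : IsClosed (π '' (τ ⁻¹ᵁ (pullback.fst h g ⁻¹ᵁ O₀) : Set ↥(V : Scheme.{u}))ᶜ) :=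
    π.isClosedMap _ (τ ⁻¹ᵁ (pullback.fst h g ⁻¹ᵁ O₀)).isOpen.isClosed_compl
  have hu : u ∉ π '' (τ ⁻¹ᵁ (pullback.fst h g ⁻¹ᵁ O₀) : Set ↥(V : Scheme.{u}))ᶜ := by
    rintro ⟨w, hw, hwu⟩
    refine hw ?_
    have hwv : V.ι w = v := hvuniq _ w.2 hwu
    show pullback.fst h g (τ w) ∈ O₀
    rw [← Scheme.Hom.comp_apply, pullback.lift_fst]
    simp only [Scheme.Hom.comp_apply]
    rw [hwv, hvz, hiz]
    refine (?_ : X₁.ι x ∈ O₀')
    rw [← hpx]
    exact hO₀.ge hpT
  obtain ⟨_, ⟨(U₁ : U.Opens), hU₁, rfl⟩, huU₁, hU₁sub⟩ := U.isBasis_affineOpens.exists_subset_of_mem_open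
    (show u ∈ (π '' (τ ⁻¹ᵁ (pullback.fst h g ⁻¹ᵁ O₀) : Set ↥(V : Scheme.{u}))ᶜ)ᶜ from hu) hbad.isOpen_compl
  haveI : IsAffine (U₁ : Scheme.{u}) := hU₁
  let g₁ := U₁.ι ≫ g
  let u₁ : (U₁ : Scheme.{u}) := ⟨u, huU₁⟩
  let P := pullback h g₁
  let fP := pullback.snd h g₁
  haveI : LocallyOfFinitePresentation fP := MorphismProperty.pullback_snd h g₁ inferInstance
  haveI : QuasiCompact fP := MorphismProperty.pullback_snd h g₁ inferInstance
  haveI : QuasiSeparated fP := MorphismProperty.pullback_snd h g₁ inferInstance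
  haveI : Flat fP := MorphismProperty.pullback_snd h g₁ inferInstance
  haveI : GeometricallyReduced fP := MorphismProperty.pullback_snd h g₁ inferInstance
  haveI : CompactSpace ↥P := (quasiCompact_iff_compactSpace fP).1 inferInstance
  haveI : QuasiSeparatedSpace ↥P := (quasiSeparated_iff_quasiSeparatedSpace fP).1 inferInstance
  let Z₁ : Scheme.{u} := (π ⁻¹ᵁ U₁ : (V : Scheme.{u}).Opens)
  let π₁ : Z₁ ⟶ U₁ := π ∣_ U₁
  haveI : IsFinite π₁ := IsZariskiLocalAtTarget.restrict hfinV U₁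
  haveI : Etale π₁ := IsZariskiLocalAtTarget.restrict (inferInstance : Etale π) U₁
  have hflc : Mor2.IsFinLocFree π₁ := ⟨inferInstance, inferInstance, inferInstance⟩
  let σ₁ : Z₁ ⟶ P := pullback.lift ((π ⁻¹ᵁ U₁).ι ≫ τ ≫ pullback.fst h g) π₁ (by
    show _ = π₁ ≫ U₁.ι ≫ g
    simp only [π₁, Category.assoc]
    rw [morphismRestrict_ι_assoc, pullback.condition, pullback.lift_snd_assoc])
  have hσ₁ : σ₁ ≫ fP = π₁ := pullback.lift_snd _ _ _
  have hσO : ∀ a, σ₁ a ∈ pullback.fst h g₁ ⁻¹ᵁ O₀ := fun a => by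
    show pullback.fst h g₁ (σ₁ a) ∈ O₀
    rw [← Scheme.Hom.comp_apply, pullback.lift_fst]
    simp only [Scheme.Hom.comp_apply]
    by_contra hn
    exact hU₁sub a.2 ⟨_, hn, rfl⟩
  -- a quasi-compact open with the prescribed trace
  haveI : LocallyOfFiniteType (fP.fiberToSpecResidueField u₁) :=
    MorphismProperty.pullback_snd fP _ inferInstance
  haveI : QuasiCompact (fP.fiberToSpecResidueField u₁) :=
    MorphismProperty.pullback_snd fP _ inferInstance
  haveI : CompactSpace ↥(fP.fiber u₁) := (quasiCompact_iff_compactSpace (fP.fiberToSpecResidueField u₁)).1 inferInstance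
  haveI : IsLocallyNoetherian (fP.fiber u₁) :=
    LocallyOfFiniteType.isLocallyNoetherian (fP.fiberToSpecResidueField u₁)
  haveI : IsNoetherian (fP.fiber u₁) := {}
  let K : Set ↥P := fP.fiberι u₁ '' (fP.fiberι u₁ ⁻¹' (pullback.fst h g₁ ⁻¹ᵁ O₀ : Set ↥P)) ∪ Set.range σ₁
  have hK : IsCompact K := by
    refine ((NoetherianSpace.isCompact _).image (fP.fiberι u₁).continuous).union ?_
    haveI : CompactSpace ↥Z₁ := (quasiCompact_iff_compactSpace π₁).1 inferInstance
    exact isCompact_range σ₁.continuous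
  obtain ⟨W', hW'c, hW'o, hKW, hW'O⟩ := PrespectralSpace.exists_isCompact_and_isOpen_between hK
    (pullback.fst h g₁ ⁻¹ᵁ O₀).isOpen (by
      rintro y (⟨b, hb, rfl⟩ | ⟨a, rfl⟩)
      · exact hb
      · exact hσO a)
  let W : P.Opens := ⟨W', hW'o⟩
  let fW := W.ι ≫ fP
  haveI : CompactSpace ↥(W : Scheme.{u}) := isCompact_iff_compactSpace.1 hW'c
  haveI : QuasiCompact fW := (quasiCompact_iff_compactSpace fW).2 inferInstance
  haveI : GeometricallyReduced fW := geometricallyReduced_open_comp fP W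
  let σW : Z₁ ⟶ W := IsOpenImmersion.lift W.ι σ₁ (by
    rw [Scheme.Opens.range_ι]
    exact Set.subset_union_right.trans hKW)
  have hσW : σW ≫ fW = π₁ := by rw [← hσ₁, ← Category.assoc, IsOpenImmersion.lift_fac]
  have hu₁range : u₁ ∈ Set.range π₁ := by
    obtain ⟨w, hw⟩ : ∃ w : (V : Scheme.{u}), V.ι w = v := ⟨⟨v, hvV⟩, rfl⟩
    have hπw : π w = u := by
      show pullback.snd q g (V.ι w) = u
      rw [hw, hvu]
    let w₁ : Z₁ := ⟨w, show π w ∈ U₁ by rw [hπw]; exact huU₁⟩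
    refine ⟨w₁, U₁.ι.isEmbedding.injective ?_⟩
    rw [← Scheme.Hom.comp_apply, morphismRestrict_ι]
    exact hπw
  have hg₁u : g₁ u₁ = s := hgu.base_eq
  -- the fibre of `W` over `u₁` is geometrically connected
  have hfibW : GeometricallyConnected (fW.fiberToSpecResidueField u₁) := by
    rw [CurveLocus.geometricallyConnected_iff]
    intro Ω _ _ t X' j r hsq
    let t' : Spec (CommRingCat.of Ω) ⟶ U₁ := t ≫ U₁.toScheme.fromSpecResidueField u₁
    have hbig : IsPullback (j ≫ fW.fiberι u₁) r fW t' :=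
      hsq.paste_horiz (IsPullback.of_hasPullback fW (U₁.toScheme.fromSpecResidueField u₁))
    rw [connectedSpace_iff_preimage fP W t' hbig]
    have hset : pullback.fst fP t' ⁻¹' (W : Set ↥P) =
        pullback.fst fP t' ⁻¹' (pullback.fst h g₁ ⁻¹ᵁ O₀ : Set ↥P) := by
      ext b
      refine ⟨fun hb => hW'O hb, fun hb => hKW (Or.inl ?_)⟩
      have hb' : fP (pullback.fst fP t' b) = u₁ := by
        rw [← Scheme.Hom.comp_apply, pullback.condition, Scheme.Hom.comp_apply]
        show (t ≫ U₁.toScheme.fromSpecResidueField u₁) (pullback.snd fP t' b) = u₁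
        rw [Scheme.Hom.comp_apply, Scheme.fromSpecResidueField_apply]
      obtain ⟨c, hc⟩ := (fP.range_fiberι u₁).ge hb'
      exact ⟨c, show fP.fiberι u₁ c ∈ (pullback.fst h g₁ ⁻¹ᵁ O₀ : Set ↥P) by rw [hc]; exact hb, hc⟩
    rw [hset]
    let O₁ := pullback.fst h g₁ ⁻¹ᵁ O₀
    let o := pullback.fst fP t' ⁻¹ᵁ O₁
    have h1 : IsPullback (pullback.fst fP t' ∣_ O₁) (o.ι ≫ pullback.snd fP t') (O₁.ι ≫ fP) t' :=
      (isPullback_morphismRestrict _ O₁).paste_vert (IsPullback.of_hasPullback fP t')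
    refine (connectedSpace_iff_preimage fP O₁ t' h1).1 ?_
    have h2 : IsPullback (pullback.fst h g₁ ∣_ O₀) (O₁.ι ≫ fP) (O₀.ι ≫ h) g₁ :=
      (isPullback_morphismRestrict _ O₀).paste_vert (IsPullback.of_hasPullback h g₁)
    refine connectedSpace_of_fiber (y := s) (geometricallyConnected_fiber_of_trace h s O₀ T hO₀ hT)
      (t' ≫ g₁) ?_ (h1.paste_horiz h2)
    show g₁ ((t ≫ U₁.toScheme.fromSpecResidueField u₁) (IsLocalRing.closedPoint Ω)) = s
    rw [Scheme.Hom.comp_apply t, Scheme.fromSpecResidueField_apply]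
    exact hg₁u
  obtain ⟨A, hAc, hAu, hAfib⟩ := exists_open fW π₁ σW hσW hflc u₁ hu₁range hfibW
  let A' : P.Opens := W.ι ''ᵁ A
  have hA'c : IsCompact (A' : Set ↥P) := hAc.image W.ι.continuous
  have hopen : IsOpen (fW '' (A : Set ↥(W : Scheme.{u}))) := fW.isOpenMap _ A.isOpen
  have huA : u₁ ∈ fW '' (A : Set ↥(W : Scheme.{u})) := by
    obtain ⟨w, hw⟩ := hu₁range
    have : fW (σW w) = u₁ := by rw [← Scheme.Hom.comp_apply, hσW, hw]
    exact ⟨σW w, hAu this, this⟩
  obtain ⟨_, ⟨(U₂ : U₁.toScheme.Opens), hU₂, rfl⟩, huU₂, hU₂sub⟩ :=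
    U₁.toScheme.isBasis_affineOpens.exists_subset_of_mem_open huA hopen
  let g₂ := U₂.ι ≫ g₁
  let s' : (U₂ : Scheme.{u}) := ⟨u₁, huU₂⟩
  have hnb : Hens2.IsEtaleNbhd g₂ s' s := by
    refine ⟨inferInstance, hg₁u, ?_⟩
    have e : g₂ = (U₂.ι ≫ U₁.ι) ≫ g := (Category.assoc _ _ _).symm
    rw [e]
    have b1 := bijective_residueFieldMap_preimmersion (U₂.ι ≫ U₁.ι) s'
    rw [Scheme.residueFieldMap_comp]
    exact b1.comp hgu.residue_bijective
  let c : pullback h g₂ ⟶ P := pullback.lift (pullback.fst h g₂) (pullback.snd h g₂ ≫ U₂.ι) (by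
    rw [Category.assoc]; exact pullback.condition)
  have hc : IsPullback c (pullback.snd h g₂) fP U₂.ι := by
    refine IsPullback.of_right ?_ (pullback.lift_snd _ _ _) (IsPullback.of_hasPullback h g₁)
    rw [pullback.lift_fst]
    exact IsPullback.of_hasPullback h g₂
  haveI : IsOpenImmersion c := MorphismProperty.of_isPullback hc.flip (inferInstance : IsOpenImmersion U₂.ι)
  have hcrange : Set.range c = fP ⁻¹' (U₂ : Set ↥(U₁ : Scheme.{u})) := by
    ext b
    refine ⟨?_, fun hb => ?_⟩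
    · rintro ⟨a, rfl⟩
      show fP (c a) ∈ U₂
      rw [← Scheme.Hom.comp_apply, hc.w, Scheme.Hom.comp_apply]
      exact (pullback.snd h g₂ a).2
    · obtain ⟨a, ha, -⟩ := Scheme.exists_preimage_of_isPullback hc b ⟨fP b, hb⟩ rfl
      exact ⟨a, ha⟩
  refine ⟨U₂, g₂, s', hU₂, hnb, c ⁻¹ᵁ A', ?_, ?_, ?_⟩
  · rw [c.isOpenEmbedding.isInducing.isCompact_iff]
    show IsCompact (c '' (c ⁻¹' (A' : Set ↥P)))
    rw [Set.image_preimage_eq_inter_range, hcrange]
    exact QuasiSeparatedSpace.inter_isCompact _ _ A'.isOpen hA'c (U₂.isOpen.preimage fP.continuous)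
      (fP.isCompact_preimage hU₂.isCompact)
  · rw [CurveLocus.geometricallyConnected_iff]
    intro Ω _ _ t X' j r hsq
    have h1 : IsPullback (c ∣_ A') ((c ⁻¹ᵁ A').ι ≫ pullback.snd h g₂) (A'.ι ≫ fP) U₂.ι :=
      (isPullback_morphismRestrict c A').paste_vert hc
    have h2 := hsq.paste_horiz h1
    have h3 : IsPullback (W.ι.isoImage A).inv (A'.ι ≫ fP) (A.ι ≫ fW) (𝟙 _) := by
      refine IsPullback.of_horiz_isIso ⟨?_⟩
      rw [Category.comp_id]
      show _ ≫ A.ι ≫ W.ι ≫ fP = _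
      rw [← Category.assoc, ← Category.assoc, Category.assoc (W.ι.isoImage A).inv, Scheme.Hom.isoImage_inv_ι]
    have h4 := h2.paste_horiz h3
    let t'' := t ≫ U₂.ι ≫ 𝟙 _
    refine connectedSpace_of_fiber (hAfib _ ?_) _ rfl h4
    obtain ⟨w, hw, hwv⟩ := hU₂sub (t (IsLocalRing.closedPoint Ω)).2
    refine ⟨w, hw, hwv.trans ?_⟩
    simp only [Category.comp_id, Scheme.Hom.comp_apply]
    rfl
  · intro y' hy'
    have hy₁ : fP (c y') = u₁ := by
      rw [← Scheme.Hom.comp_apply, hc.w, Scheme.Hom.comp_apply, hy']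
      rfl
    have hfst : pullback.fst h g₁ (c y') = pullback.fst h g₂ y' := by
      rw [← Scheme.Hom.comp_apply, pullback.lift_fst]
    have hhy : h (pullback.fst h g₂ y') = s := by
      rw [← Scheme.Hom.comp_apply, pullback.condition, Scheme.Hom.comp_apply, hy']
      exact hg₁u
    constructor
    · rintro ⟨w, -, hw⟩
      have hmem : pullback.fst h g₂ y' ∈ O₀ := by
        rw [← hfst, ← hw]
        exact hW'O w.2
      obtain ⟨b, hb⟩ := (h.range_fiberι s).ge hhy
      exact ⟨b, hO₀.le (show h.fiberι s b ∈ O₀ by rw [hb]; exact hmem), hb⟩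
    · rintro ⟨b, hbT, hb⟩
      have hmem : c y' ∈ W := by
        obtain ⟨d, hd⟩ := (fP.range_fiberι u₁).ge hy₁
        refine hKW (Or.inl ⟨d, ?_, hd⟩)
        show pullback.fst h g₁ (fP.fiberι u₁ d) ∈ O₀
        rw [hd, hfst, ← hb]
        exact hO₀.ge hbT
      exact ⟨⟨c y', hmem⟩, hAu (show fW ⟨c y', hmem⟩ = u₁ from hy₁), rfl⟩

end GrothLib.ConnOpen6
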